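import Cfsg.Agent.Lib.CosetCert.D.RuT.Tbl
import Cfsg.Agent.Lib.CosetCert.D.RuT.Lv0.CT

namespace Cfsg.Agent.Lib.CosetCert.D.RuT.Lv0.Tab

open Cfsg.Agent.Lib.CosetCert Cfsg.Agent.Lib.TC.Core Cfsg.Agent.Lib.TC.Enc Cfsg.Agent.Lib.TC.Pres Cfsg.Agent.Lib.TC.Perm Cfsg.Agent.Lib.TC.Main

set_option maxRecDepth 100000

open Cfsg.Agent.Lib.CosetCert.D.RuT.Tbl

/-- The chunks. -/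
noncomputable def ctree : Tr Nat := Cfsg.Agent.Lib.CosetCert.D.RuT.Lv0.CT.tree

/-- The relator rotations. -/
noncomputable def rotT : Tr (List Nat) := (Tr.node (Tr.node (Tr.node (Tr.node (Tr.node (Tr.node (Tr.node (Tr.node (Tr.node (Tr.leaf []) (Tr.leaf [0,2,1,1,2,1,2,3,0,1,2,3,2,1,1,2])) (Tr.node (Tr.leaf [1,0,1,0,3,0,2,1,1,2,1,2]) (Tr.leaf [0,2,0,3,0,2,0,1,0,4,0,4,0,4,3,2,0,2,1,4,0,4,0,4,2]))) (Tr.node (Tr.node (Tr.leaf [1,1,2,3,2,1,2,1,1,2]) (Tr.leaf [2,0,2,1,4,0,4,3,3,0,1,0,3,0,4,0,4,3])) (Tr.node (Tr.leaf [1,1,0,2,3,0,1,1,0,1,0,2,1,0,3,0]) (Tr.leaf [4,2,3,0,4,0,4,0,2,0,3,2,0,1,2,4,0,4,0,1,2,1])))) (Tr.node (Tr.node (Tr.node (Tr.leaf [3,0,3,3,0,3,0,1,0,3]) (Tr.leaf [1,4,3,0,2,3,0,3,0,2,0,4])) (Tr.node (Tr.leaf [0,1,2,1,0,3,2,3,0,2,1,0,3,2])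 (Tr.leaf [2,3,3,0,4,0,4,0,4,1,0,3,2,3,2,0,3,4,0,4,0,4,2,0,2,0,3,3]))) (Tr.node (Tr.node (Tr.leaf [2,1,2,3,2,3,0,3,0,1,1,0]) (Tr.leaf [4,0,4,1,0,2,1,0,3,4,0,4,0,3,2,1,0,1,2,0,2,0,1])) (Tr.node (Tr.leaf [0,3,2,1,0,2,1,0,3,0,3,2,1,2,0,2]) (Tr.leaf []))))) (Tr.node (Tr.node (Tr.node (Tr.node (Tr.leaf [2,3,2,3,2,3,2,3]) (Tr.leaf [3,2,0,3,2,0,1,0,1,2,0,2,0,3,3,2,0])) (Tr.node (Tr.leaf [0,1,1,0,3,3,0,1,0,3,0,1,0,3]) (Tr.leaf [4,0,4,0,3,0,2,0,3,0,2,0,3,4,0,4,0,4,1,0,2,0,2,3,3,0,4,0]))) (Tr.node (Tr.node (Tr.leaf [1,0,2,1,2,3,2,0,1,0,1,1]) (Tr.leaf [0,4,3,2,0,2,1,4,0,4,0,1,0,3,0,1,1,4])) (Tr.node (Tr.leaf [1,2,0,1,0,3,0,3,3,2,0,1,0,3,0,1]) (Tr.leaf [0,4,1,0,2,0,3,4,0,4,0,4,0,4,3,2,3,0,3,2,1,4,0,4,0,4,0,4,1])))) (Tr.node (Tr.node (Tr.node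 (Tr.leaf [2,0,1,0,3,0,2,1,2,3]) (Tr.leaf [2,0,4,0,1,2,3,3,0,1,2,4,0,3])) (Tr.node (Tr.leaf [3,0,3,0,3,0,3,2,0,2,0,2,0,2,0,2]) (Tr.leaf [2,3,0,4,2,3,0,3,2,3,3,0,3,2,3,4,0,1,2,4]))) (Tr.node (Tr.node (Tr.leaf [2,3,3,2,1,2,0,3,0,3,3,0]) (Tr.leaf [2,3,0,4,0,4,1,2,3,0,2,3,0,4,0,4,1,2,3,0])) (Tr.node (Tr.leaf [2,1,2,0,2,1,2,3,2,3,3,0,3,2,3,3]) (Tr.leaf [])))))) (Tr.node (Tr.node (Tr.node (Tr.node (Tr.node (Tr.leaf [0,1,0,1,0,1,0,1]) (Tr.leaf [2,0,2,1,2,0,2,3,2,0,2,1,2,0,2,3])) (Tr.node (Tr.leaf [1,0,2,0,3,2,1,0,2,0,3,2]) (Tr.leaf [0,4,1,0,2,0,2,3,3,0,4,0,4,0,4,0,3,0,2,0,3,0,2,0,3,4,0,4]))) (Tr.node (Tr.node (Tr.leaf [2,3,3,2,3,2,1,2,3,3]) (Tr.leaf [1,0,3,0,4,0,4,3,2,0,2,1,4,0,4,3,3,0])) (Tr.node (Tr.leaf [2,1,2,1,2,1,2,0,2,1,2,3,2,0,1,0])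 (Tr.leaf [4,0,4,0,4,1,0,2,1,0,3,4,0,4,0,4,0,1,2,4,1,2,3,0])))) (Tr.node (Tr.node (Tr.node (Tr.leaf [1,0,3,0,2,1,2,3,2,0]) (Tr.leaf [2,0,1,4,3,4,0,2,0,1,0,1])) (Tr.node (Tr.leaf [2,0,1,2,1,0,3,2,3,0,2,1,0,3]) (Tr.leaf [4,0,4,0,1,1,2,1,1,0,2,0,2,4,0,4,0,4,1,0,2,1,2,1,0,3,4,0]))) (Tr.node (Tr.node (Tr.leaf [2,1,2,3,2,0,3,0,3,3,0,3]) (Tr.leaf [0,4,0,1,2,0,1,2,3,4,0,4,0,1,2,0,1,2,3,4])) (Tr.node (Tr.leaf [2,3,0,2,0,1,1,0,2,0,1,2,0,1,1,0]) (Tr.leaf []))))) (Tr.node (Tr.node (Tr.node (Tr.node (Tr.leaf [1,0,1,1,0,3,0,1,0,1]) (Tr.leaf [2,1,1,0,3,2,0,3,2,0,3,0,2,3,0,2,0])) (Tr.node (Tr.leaf [3,2,3,3,2,1,2,1,0,3,0,1,1,0]) (Tr.leaf [0,4,1,0,3,2,3,2,0,3,4,0,4,0,4,2,0,2,0,3,3,2,3,3,0,4,0,4]))) (Tr.node (Tr.node (Tr.leaf [1,0,1,0,1,2,1,2,3,2,0,1])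 (Tr.leaf [3,4,0,4,3,0,2,0,2,3,0,3,2,1,0,4,0,4,1,0,3,2,0])) (Tr.node (Tr.leaf [2,3,2,3,0,2,1,0,3,0,1,2,1,0,2,0]) (Tr.leaf [4,0,4,0,4,0,4,3,2,1,0,1,2,1,4,0,4,0,4,0,4,1,0,2,0,3,4,0,3])))) (Tr.node (Tr.node (Tr.node (Tr.leaf [2,0,2,0,2,0,2,0,2,0]) (Tr.leaf [2,1,0,4,2,3,0,1,1,2,3,0,4,0])) (Tr.node (Tr.leaf [1,0,3,0,3,3,0,2,0,3,0,1,1,0,1,2]) (Tr.leaf [4,3,2,3,0,4,0,4,2,3,0,2,1,0,2,0,4,0,4,0,1,2]))) (Tr.node (Tr.node (Tr.leaf [2,3,0,1,0,3,0,2,3,2,3,3]) (Tr.leaf [0,4,1,2,3,0,2,3,0,4,0,4,1,2,3,0,2,3,0,4])) (Tr.node (Tr.leaf [2,1,2,1,2,0,2,1,0,3,2,0,1,2,1,0]) (Tr.leaf []))))))) (Tr.node (Tr.node (Tr.node (Tr.node (Tr.node (Tr.node (Tr.leaf [3,3,3,3]) (Tr.leaf [2,1,1,2,0,2,0,3,2,1,0,2,0,2,1,1])) (Tr.node (Tr.leaf [3,0,3,2,1,2,3,2,1,0,1,0])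 (Tr.leaf [0,2,4,0,4,0,4,3,2,0,2,1,4,0,4,0,4,0,3,0,2,0,1,0,2]))) (Tr.node (Tr.node (Tr.leaf [3,2,1,2,3,3,2,3,3,2]) (Tr.leaf [4,0,4,3,3,0,1,0,3,0,4,0,4,3,2,0,2,1])) (Tr.node (Tr.leaf [0,1,2,1,0,3,2,0,3,0,2,1,2,0,3,2]) (Tr.leaf [2,4,1,2,3,0,4,0,4,0,4,1,0,2,1,0,3,4,0,4,0,4,0,1])))) (Tr.node (Tr.node (Tr.node (Tr.leaf [3,0,1,0,3,3,0,3,3,0]) (Tr.leaf [3,0,3,0,2,0,4,1,4,3,0,2])) (Tr.node (Tr.leaf [3,2,3,0,2,1,0,3,2,0,1,2,1,0]) (Tr.leaf [4,0,4,0,4,1,0,2,1,2,1,0,3,4,0,4,0,4,0,1,1,2,1,1,0,2,0,2]))) (Tr.node (Tr.node (Tr.leaf [1,0,1,1,0,1,0,2,1,2,3,2]) (Tr.leaf [3,4,0,4,0,3,2,1,0,1,2,0,2,0,1,4,0,4,1,0,2,1,0])) (Tr.node (Tr.leaf [2,3,0,3,3,0,2,1,0,2,0,1,2,1,2,0]) (Tr.leaf []))))) (Tr.node (Tr.node (Tr.node (Tr.node (Tr.leaf [0,1,0,1,1,0,1,1,0,3])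 (Tr.leaf [2,3,0,2,0,2,3,3,0,3,2,0,3,2,0,3,0])) (Tr.node (Tr.leaf [0,1,2,3,2,3,3,2,1,0,3,0,1,1]) (Tr.leaf [1,1,2,0,2,0,3,4,0,4,0,4,1,0,2,0,1,0,2,0,1,0,4,0,4,0,4,0]))) (Tr.node (Tr.node (Tr.leaf [2,1,2,3,2,0,1,1,0,1,0,1]) (Tr.leaf [0,4,0,1,0,3,0,1,1,4,0,4,3,2,0,2,1,4])) (Tr.node (Tr.leaf [3,3,0,1,0,3,0,2,3,0,1,0,3,0,3,2]) (Tr.leaf [4,0,4,0,4,0,4,1,0,2,0,3,4,0,3,4,0,4,0,4,0,4,3,2,1,0,1,2,1])))) (Tr.node (Tr.node (Tr.node (Tr.leaf [0,2,0,2,0,2,0,2,0,2]) (Tr.leaf [3,3,0,1,2,4,0,3,2,0,4,0,1,2])) (Tr.node (Tr.leaf [0,1,0,3,0,3,3,2,3,0,3,3,0,1,0,2]) (Tr.leaf [0,1,2,4,2,3,0,4,1,2,1,0,1,1,2,1,0,1,2,4]))) (Tr.node (Tr.node (Tr.leaf [0,2,3,3,2,1,2,0,3,0,1,1]) (Tr.leaf [4,1,2,3,0,2,3,0,4,0,4,1,2,3,0,2,3,0,4,0])) (Tr.node (Tr.leaf [2,0,1,1,2,1,2,3,2,0,3,2,1,1,2,1])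 (Tr.leaf [])))))) (Tr.node (Tr.node (Tr.node (Tr.node (Tr.node (Tr.leaf [0,3,0,3,0,3,0,3]) (Tr.leaf [1,2,0,3,2,0,3,2,0,1,0,1,2,0,2,0,1])) (Tr.node (Tr.leaf [2,0,3,3,0,1,0,1,1,2,3,3,2,1]) (Tr.leaf [0,2,3,3,0,4,0,4,0,4,0,3,0,2,0,3,0,2,0,3,4,0,4,0,4,1,0,2]))) (Tr.node (Tr.node (Tr.leaf [3,3,2,1,1,2,3,2,1,2]) (Tr.leaf [3,0,1,1,4,0,4,3,2,0,2,1,4,0,4,0,1,0])) (Tr.node (Tr.leaf [0,2,1,2,3,2,0,3,0,1,0,2,1,2,3,2]) (Tr.leaf [0,4,1,0,3,2,0,3,4,0,4,0,4,0,1,2,3,4,2,3,0,4,0,4])))) (Tr.node (Tr.node (Tr.node (Tr.leaf [2,1,2,3,2,0,1,0,3,0]) (Tr.leaf [4,0,2,0,1,0,1,2,0,1,4,3])) (Tr.node (Tr.leaf [0,1,2,1,2,0,2,0,1,2,1,2,0,2]) (Tr.leaf [4,0,4,0,4,0,4,0,4,0,4,0,4,0,4,0]))) (Tr.node (Tr.node (Tr.leaf [0,2,3,2,1,1,2,0,1,1,0,1]) (Tr.leaf [3,4,0,4,0,1,2,0,1,2,3,4,0,4,0,1,2,0,1,2]))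 (Tr.node (Tr.leaf [0,2,0,1,1,0,2,0,1,2,1,0,2,3,2,1]) (Tr.leaf []))))) (Tr.node (Tr.node (Tr.node (Tr.node (Tr.leaf [0,3,0,1,0,1,1,0,1,1]) (Tr.leaf [0,2,1,2,0,3,0,2,0,3,3,2,1,0,3,0,2])) (Tr.node (Tr.leaf [0,3,2,3,0,2,0,1,2,1,0,2,0,2]) (Tr.leaf [4,0,4,2,0,2,0,3,3,2,3,3,0,4,0,4,0,4,1,0,3,2,3,2,0,3,4,0]))) (Tr.node (Tr.node (Tr.leaf [0,3,3,0,2,1,2,3,2,3,0,3]) (Tr.leaf [2,0,2,3,0,3,2,1,0,4,0,4,1,0,3,2,0,3,4,0,4,3,0])) (Tr.node (Tr.leaf [2,0,2,0,2,0,2,1,0,3,0,2,1,2,3,0]) (Tr.leaf [1,3])))) (Tr.node (Tr.node (Tr.node (Tr.leaf [2,1,2,1,2,1,2,3,3,3]) (Tr.leaf [4,0,4,3,2,0,2,1,4,0,4,3,3,0,1,0,3,0])) (Tr.node (Tr.leaf [0,2,1,0,2,0,1,0,2,0,3,0,2,0,3,2]) (Tr.leaf [0,2,1,0,2,0,4,0,4,0,1,2,4,3,2,3,0,4,0,4,2,3]))) (Tr.node (Tr.node (Tr.leaf [3,0,1,2,1,2,3,2,3,0,1,0])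 (Tr.leaf [0,2,1,4,0,4,0,4,2,0,2,0,3,0,2,0,1,0,4,0,4,0,4,3,2])) (Tr.node (Tr.leaf [1,2,1,2,3,2,1,0,1,2,3,2,1,1,2,0]) (Tr.leaf [])))))))) (Tr.node (Tr.node (Tr.node (Tr.node (Tr.node (Tr.node (Tr.node (Tr.leaf [1,1,1,1]) (Tr.leaf [2,3,3,2,0,2,3,2,1,1,2,1,0,1,2,3])) (Tr.node (Tr.leaf [0,3,0,3,2,3,2,3,3,2,0,1]) (Tr.leaf [2,0,1,0,4,0,4,0,4,3,2,0,2,1,4,0,4,0,4,2,0,2,0,3,0]))) (Tr.node (Tr.node (Tr.leaf [3,2,1,2,1,1,2,1,1,2]) (Tr.leaf [2,1,4,0,4,3,3,0,1,0,3,0,4,0,4,3,2,0])) (Tr.node (Tr.leaf [1,2,0,3,2,0,1,2,1,0,3,2,0,3,0,2]) (Tr.leaf [4,0,4,0,2,0,3,2,0,1,2,4,0,4,0,1,2,1,4,2,3,0])))) (Tr.node (Tr.node (Tr.node (Tr.leaf [3,3,0,3,0,1,0,3,3,0]) (Tr.leaf [3,0,2,3,0,3,0,2,0,4,1,4])) (Tr.node (Tr.leaf [1,0,3,2,3,0,2,1,0,3,2,0,1,2]) (Tr.leaf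 [2,1,1,0,2,0,2,4,0,4,0,4,1,0,2,1,2,1,0,3,4,0,4,0,4,0,1,1]))) (Tr.node (Tr.node (Tr.leaf [0,2,1,2,3,2,1,0,1,1,0,1]) (Tr.leaf [1,0,2,1,0,3,4,0,4,0,3,2,1,0,1,2,0,2,0,1,4,0,4])) (Tr.node (Tr.leaf [0,1,2,1,2,0,2,0,3,2,0,1,1,0,1,2]) (Tr.leaf []))))) (Tr.node (Tr.node (Tr.node (Tr.node (Tr.leaf [2,3,2,3,2,3,2,3]) (Tr.leaf [0,1,0,2,1,0,2,1,0,1,1,2,0,2,0,1,2])) (Tr.node (Tr.leaf [1,1,2,1,1,2,1,2,3,0,1,0,3,0]) (Tr.leaf [4,0,4,0,1,1,2,0,2,0,3,4,0,4,0,4,1,0,2,0,1,0,2,0,1,0,4,0]))) (Tr.node (Tr.node (Tr.leaf [1,2,3,2,0,3,3,3,0,3,0,2]) (Tr.leaf [2,1,4,0,4,0,1,0,3,0,1,1,4,0,4,3,2,0])) (Tr.node (Tr.leaf [2,1,0,3,0,3,3,0,2,3,3,0,1,0,3,0]) (Tr.leaf [3,2,3,0,3,2,1,4,0,4,0,4,0,4,1,0,4,1,0,2,0,3,4,0,4,0,4,0,4])))) (Tr.node (Tr.node (Tr.node (Tr.leaf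 [1,0,3,0,1,0,3,3,0,1]) (Tr.leaf [4,0,1,2,3,3,0,1,2,4,0,3,2,0])) (Tr.node (Tr.leaf [2,0,3,2,1,0,2,0,3,2,0,3,0,3,0,3]) (Tr.leaf [2,3,0,3,2,3,3,0,3,2,3,4,0,1,2,4,2,3,0,4]))) (Tr.node (Tr.node (Tr.leaf [1,2,0,3,0,3,3,0,2,3,3,2]) (Tr.leaf [4,0,4,1,2,3,0,2,3,0,4,0,4,1,2,3,0,2,3,0])) (Tr.node (Tr.leaf [3,3,0,3,2,3,3,2,1,2,0,2,1,2,3,2]) (Tr.leaf [])))))) (Tr.node (Tr.node (Tr.node (Tr.node (Tr.node (Tr.leaf [1,0,1,0,1,0,1,0]) (Tr.leaf [0,2,3,2,0,2,1,2,0,2,3,2,0,2,1,2])) (Tr.node (Tr.leaf [2,1,2,0,3,3,0,1,0,1,1,2,1,1]) (Tr.leaf [1,0,2,0,2,3,3,0,4,0,4,0,4,0,3,0,2,0,3,0,2,0,3,4,0,4,0,4]))) (Tr.node (Tr.node (Tr.leaf [1,2,3,2,1,2,3,3,2,1]) (Tr.leaf [3,0,4,0,4,3,2,0,2,1,4,0,4,3,3,0,1,0])) (Tr.node (Tr.leaf [0,3,0,2,1,2,3,2,0,2,3,2,3,2,3,2])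 (Tr.leaf [3,4,2,3,0,4,0,4,0,4,1,0,3,2,0,3,4,0,4,0,4,0,1,2])))) (Tr.node (Tr.node (Tr.node (Tr.leaf [3,0,2,1,2,3,2,0,1,0]) (Tr.leaf [4,3,4,0,2,0,1,0,1,2,0,1])) (Tr.node (Tr.leaf [0,2,0,1,2,1,2,0,2,0,1,2,1,2]) (Tr.leaf [0,4,0,4,0,4,0,4,0,4,0,4,0,4,0,4]))) (Tr.node (Tr.node (Tr.leaf [0,3,0,3,3,0,3,2,1,2,3,2]) (Tr.leaf [0,1,2,0,1,2,3,4,0,4,0,1,2,0,1,2,3,4,0,4])) (Tr.node (Tr.leaf [0,1,2,0,3,3,0,2,3,0,2,0,3,3,0,2]) (Tr.leaf []))))) (Tr.node (Tr.node (Tr.node (Tr.node (Tr.leaf [1,1,0,3,0,1,0,1,1,0]) (Tr.leaf [2,0,1,2,3,2,0,2,1,1,0,2,0,1,0,2,3])) (Tr.node (Tr.leaf [2,1,0,2,0,2,0,3,2,3,0,2,0,1]) (Tr.leaf [2,3,2,0,3,4,0,4,0,4,2,0,2,0,3,3,2,3,3,0,4,0,4,0,4,1,0,3]))) (Tr.node (Tr.node (Tr.leaf [3,0,3,0,3,3,0,2,1,2,3,2]) (Tr.leaf [0,4,3,0,2,0,2,3,0,3,2,1,0,4,0,4,1,0,3,2,0,3,4]))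 (Tr.node (Tr.leaf [0,1,2,3,2,0,1,0,3,2,0,2,0,2,0,2]) (Tr.leaf [0,4,3,2,1,0,1,2,1,4,0,4,0,4,0,4,1,0,2,0,3,4,0,3,4,0,4,0,4])))) (Tr.node (Tr.node (Tr.node (Tr.leaf [2,3,2,3,2,3,2,1,1,1]) (Tr.leaf [0,4,2,3,0,1,1,2,3,0,4,0,2,1])) (Tr.node (Tr.leaf [2,0,3,0,2,0,3,2,0,2,1,0,2,0,1,0]) (Tr.leaf [2,3,0,4,0,4,2,3,0,2,1,0,2,0,4,0,4,0,1,2,4,3]))) (Tr.node (Tr.node (Tr.leaf [3,0,2,3,2,3,3,2,3,0,1,0]) (Tr.leaf [4,0,4,3,2,0,2,1,4,0,4,0,4,2,0,2,0,3,0,2,0,1,0,4,0])) (Tr.node (Tr.leaf [2,0,3,2,3,0,2,1,0,3,2,0,2,3,2,3]) (Tr.leaf []))))))) (Tr.node (Tr.node (Tr.node (Tr.node (Tr.node (Tr.node (Tr.leaf [3,3,3,3]) (Tr.leaf [2,1,2,0,2,3,2,0,2,1,2,0,2,3,2,0])) (Tr.node (Tr.leaf [0,3,2,1,0,2,0,3,2,1,0,2]) (Tr.leaf [4,0,4,0,4,1,0,2,0,2,3,3,0,4,0,4,0,4,0,3,0,2,0,3,0,2,0,3])))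 (Tr.node (Tr.node (Tr.leaf [2,3,3,2,3,3,2,3,2,1]) (Tr.leaf [4,3,3,0,1,0,3,0,4,0,4,3,2,0,2,1,4,0])) (Tr.node (Tr.leaf [2,0,3,2,1,0,2,0,2,3,2,0,3,0,3,3]) (Tr.leaf [1,2,3,0,4,0,4,0,4,1,0,2,1,0,3,4,0,4,0,4,0,1,2,4])))) (Tr.node (Tr.node (Tr.node (Tr.leaf [0,3,3,0,3,0,1,0,1,1]) (Tr.leaf [0,2,0,1,0,1,2,0,1,4,3,4])) (Tr.node (Tr.leaf [2,1,0,3,2,0,1,2,1,0,3,2,3,0]) (Tr.leaf [3,4,0,4,0,4,0,1,1,2,1,1,0,2,0,2,4,0,4,0,4,1,0,2,1,2,1,0]))) (Tr.node (Tr.node (Tr.leaf [3,3,0,3,2,1,2,3,2,0,3,0]) (Tr.leaf [0,4,0,3,2,1,0,1,2,0,2,0,1,4,0,4,1,0,2,1,0,3,4])) (Tr.node (Tr.leaf [1,2,0,1,1,0,2,3,0,2,0,1,1,0,2,0]) (Tr.leaf []))))) (Tr.node (Tr.node (Tr.node (Tr.node (Tr.leaf [0,1,1,0,1,1,0,3,0,1]) (Tr.leaf [2,3,3,0,3,2,0,3,2,0,3,0,2,3,0,2,0])) (Tr.node (Tr.leaf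 [2,1,0,1,1,0,1,0,3,2,3,2,1,1]) (Tr.leaf [3,4,0,4,0,4,1,0,2,0,1,0,2,0,1,0,4,0,4,0,4,0,1,1,2,0,2,0]))) (Tr.node (Tr.node (Tr.leaf [2,0,1,1,0,1,0,1,2,1,2,3]) (Tr.leaf [0,4,1,0,3,2,0,3,4,0,4,3,0,2,0,2,3,0,3,2,1,0,4])) (Tr.node (Tr.leaf [0,2,0,3,2,3,0,1,0,3,2,0,1,2,1,2]) (Tr.leaf [2,0,3,4,0,3,4,0,4,0,4,0,4,3,2,1,0,1,2,1,4,0,4,0,4,0,4,1,0])))) (Tr.node (Tr.node (Tr.node (Tr.leaf [2,0,2,0,2,0,2,0,2,0]) (Tr.leaf [4,0,2,1,0,4,2,3,0,1,1,2,3,0])) (Tr.node (Tr.leaf [1,1,0,1,0,3,2,3,0,3,3,0,1,0,2,0]) (Tr.leaf [4,0,1,2,4,3,2,3,0,4,0,4,2,3,0,2,1,0,2,0,4,0]))) (Tr.node (Tr.node (Tr.leaf [1,2,1,1,2,1,2,0,1,0,3,0]) (Tr.leaf [2,3,0,2,3,0,4,0,4,1,2,3,0,2,3,0,4,0,4,1])) (Tr.node (Tr.leaf [0,2,0,3,2,1,0,2,0,1,1,2,3,2,3,2]) (Tr.leaf [])))))) (Tr.node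 (Tr.node (Tr.node (Tr.node (Tr.node (Tr.leaf [2,1,2,1,2,1,2,1]) (Tr.leaf [2,0,1,0,1,2,0,2,0,1,1,2,0,3,2,0,3])) (Tr.node (Tr.leaf [3,3,0,1,0,2,1,2,1,1,1,2,1,0]) (Tr.leaf [3,3,0,4,0,4,0,4,0,3,0,2,0,3,0,2,0,3,4,0,4,0,4,1,0,2,0,2]))) (Tr.node (Tr.node (Tr.leaf [2,3,3,2,3,2,1,2,1,1]) (Tr.leaf [1,1,4,0,4,3,2,0,2,1,4,0,4,0,1,0,3,0])) (Tr.node (Tr.leaf [3,0,1,0,3,0,3,2,3,0,3,3,0,1,0,2]) (Tr.leaf [4,1,0,4,1,0,2,0,3,4,0,4,0,4,0,4,3,2,3,0,3,2,1,4,0,4,0,4,0])))) (Tr.node (Tr.node (Tr.node (Tr.leaf [2,3,2,0,1,0,3,0,2,1]) (Tr.leaf [0,3,2,0,4,0,1,2,3,3,0,1,2,4])) (Tr.node (Tr.leaf [3,2,3,0,2,0,2,3,2,3,0,2,0,2]) (Tr.leaf [4,0,1,2,4,2,3,0,4,2,3,0,3,2,3,3,0,3,2,3]))) (Tr.node (Tr.node (Tr.leaf [0,1,1,0,1,0,2,3,2,1,1,2]) (Tr.leaf [0,4,0,1,2,0,1,2,3,4,0,4,0,1,2,0,1,2,3,4]))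 (Tr.node (Tr.leaf [1,1,1,2,3,0,2,1,0,3,2,0,1,2,1,0]) (Tr.leaf []))))) (Tr.node (Tr.node (Tr.node (Tr.node (Tr.leaf [0,3,3,0,3,3,0,3,0,1]) (Tr.leaf [2,0,1,1,2,1,0,3,0,2,0,2,1,2,0,3,0])) (Tr.node (Tr.leaf [3,0,2,0,1,2,1,0,2,0,2,0,3,2]) (Tr.leaf [2,0,2,0,3,3,2,3,3,0,4,0,4,0,4,1,0,3,2,3,2,0,3,4,0,4,0,4]))) (Tr.node (Tr.node (Tr.leaf [3,3,0,1,0,1,2,1,2,3,2,0]) (Tr.leaf [0,3,2,1,0,1,2,0,2,0,1,4,0,4,1,0,2,1,0,3,4,0,4])) (Tr.node (Tr.leaf [3,2,0,3,2,1,0,2,0,2,3,2,1,0,1,0]) (Tr.leaf [3,1])))) (Tr.node (Tr.node (Tr.node (Tr.leaf [1,2,1,1,2,3,2,1,2,1]) (Tr.leaf [4,3,2,0,2,1,4,0,4,3,3,0,1,0,3,0,4,0])) (Tr.node (Tr.leaf [2,0,3,0,3,3,0,1,2,1,0,3,0,1,1,0]) (Tr.leaf [4,0,1,2,1,4,2,3,0,4,0,4,0,2,0,3,2,0,1,2,4,0]))) (Tr.node (Tr.node (Tr.leaf [3,2,3,0,1,0,3,0,1,2,1,2])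 (Tr.leaf [0,4,2,0,2,0,3,0,2,0,1,0,4,0,4,0,4,3,2,0,2,1,4,0,4])) (Tr.node (Tr.leaf [2,3,2,3,0,3,2,1,1,2,1,2,0,3,2,1]) (Tr.leaf []))))))))) (Tr.node (Tr.node (Tr.node (Tr.node (Tr.node (Tr.node (Tr.node (Tr.node (Tr.leaf [1,1,1,1]) (Tr.leaf [0,1,2,3,2,1,1,2,0,3,2,1,1,2,1,2])) (Tr.node (Tr.leaf [3,2,3,3,2,0,1,0,3,0,3,2]) (Tr.leaf [2,0,3,0,2,0,1,0,4,0,4,0,4,3,2,0,2,1,4,0,4,0,4,2,0]))) (Tr.node (Tr.node (Tr.leaf [2,3,2,1,2,1,1,2,1,1]) (Tr.leaf [0,2,1,4,0,4,3,3,0,1,0,3,0,4,0,4,3,2])) (Tr.node (Tr.leaf [2,1,0,2,3,2,0,1,0,2,1,0,3,2,3,0]) (Tr.leaf [2,3,0,4,0,4,0,2,0,3,2,0,1,2,4,0,4,0,1,2,1,4])))) (Tr.node (Tr.node (Tr.node (Tr.leaf [0,3,3,0,3,0,1,0,3,3]) (Tr.leaf [4,3,0,2,3,0,3,0,2,0,4,1])) (Tr.node (Tr.leaf [1,2,1,0,3,2,3,0,2,1,0,3,2,0])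 (Tr.leaf [3,0,4,0,4,0,4,1,0,3,2,3,2,0,3,4,0,4,0,4,2,0,2,0,3,3,2,3]))) (Tr.node (Tr.node (Tr.leaf [1,2,3,2,3,0,3,0,1,1,0,2]) (Tr.leaf [0,4,1,0,2,1,0,3,4,0,4,0,3,2,1,0,1,2,0,2,0,1,4])) (Tr.node (Tr.leaf [1,0,3,0,1,1,0,2,0,1,1,0,1,0,3,2]) (Tr.leaf []))))) (Tr.node (Tr.node (Tr.node (Tr.node (Tr.leaf [3,2,3,2,3,2,3,2]) (Tr.leaf [2,0,3,3,2,0,3,2,0,3,2,3,0,3,0,2,0])) (Tr.node (Tr.leaf [1,1,0,3,3,0,1,0,3,0,1,0,3,0]) (Tr.leaf [4,0,3,0,2,0,3,0,2,0,3,4,0,4,0,4,1,0,2,0,2,3,3,0,4,0,4,0]))) (Tr.node (Tr.node (Tr.leaf [2,1,2,3,2,0,1,0,1,1,1,0]) (Tr.leaf [0,2,1,4,0,4,0,1,0,3,0,1,1,4,0,4,3,2])) (Tr.node (Tr.leaf [1,0,3,0,2,1,1,0,1,0,3,0,2,3,3,0]) (Tr.leaf [4,3,2,3,0,3,2,1,4,0,4,0,4,0,4,1,0,4,1,0,2,0,3,4,0,4,0,4,0])))) (Tr.node (Tr.node (Tr.node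 (Tr.leaf [0,1,1,0,3,0,1,0,3,3]) (Tr.leaf [0,4,0,1,2,3,3,0,1,2,4,0,3,2])) (Tr.node (Tr.leaf [2,1,0,1,0,1,0,2,1,0,2,0,3,2,1,0]) (Tr.leaf [4,2,3,0,3,2,3,3,0,3,2,3,4,0,1,2,4,2,3,0]))) (Tr.node (Tr.node (Tr.leaf [3,3,2,1,2,0,3,0,3,3,0,2]) (Tr.leaf [3,0,4,0,4,1,2,3,0,2,3,0,4,0,4,1,2,3,0,2])) (Tr.node (Tr.leaf [0,2,1,2,3,2,3,3,0,3,2,3,3,2,1,2]) (Tr.leaf [])))))) (Tr.node (Tr.node (Tr.node (Tr.node (Tr.node (Tr.leaf [1,0,1,0,1,0,1,0]) (Tr.leaf [0,2,1,2,0,2,3,2,0,2,1,2,0,2,3,2])) (Tr.node (Tr.leaf [0,2,0,3,2,1,0,2,0,3,2,1]) (Tr.leaf [4,1,0,2,0,2,3,3,0,4,0,4,0,4,0,3,0,2,0,3,0,2,0,3,4,0,4,0]))) (Tr.node (Tr.node (Tr.leaf [3,3,2,3,2,1,2,3,3,2]) (Tr.leaf [0,3,0,4,0,4,3,2,0,2,1,4,0,4,3,3,0,1])) (Tr.node (Tr.leaf [2,0,3,0,2,1,2,3,2,0,2,3,2,3,2,3])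 (Tr.leaf [0,4,1,0,2,1,0,3,4,0,4,0,4,0,1,2,4,1,2,3,0,4,0,4])))) (Tr.node (Tr.node (Tr.node (Tr.leaf [0,3,0,2,1,2,3,2,0,1]) (Tr.leaf [0,1,4,3,4,0,2,0,1,0,1,2])) (Tr.node (Tr.leaf [1,2,1,2,0,2,0,1,2,1,2,0,2,0]) (Tr.leaf [0,4,0,1,1,2,1,1,0,2,0,2,4,0,4,0,4,1,0,2,1,2,1,0,3,4,0,4]))) (Tr.node (Tr.node (Tr.leaf [2,0,3,0,3,3,0,3,2,1,2,3]) (Tr.leaf [4,0,1,2,0,1,2,3,4,0,4,0,1,2,0,1,2,3,4,0])) (Tr.node (Tr.leaf [2,0,1,1,0,2,0,1,2,0,1,1,0,2,3,0]) (Tr.leaf []))))) (Tr.node (Tr.node (Tr.node (Tr.node (Tr.leaf [0,1,1,0,3,0,1,0,1,1]) (Tr.leaf [2,0,1,2,0,3,0,1,2,0,3,2,3,0,3,2,0])) (Tr.node (Tr.leaf [0,2,0,3,2,1,0,2,0,3,2,3,3,3]) (Tr.leaf [1,0,3,2,3,2,0,3,4,0,4,0,4,2,0,2,0,3,3,2,3,3,0,4,0,4,0,4]))) (Tr.node (Tr.node (Tr.leaf [2,3,0,3,0,3,3,0,2,1,2,3])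 (Tr.leaf [4,0,4,3,0,2,0,2,3,0,3,2,1,0,4,0,4,1,0,3,2,0,3])) (Tr.node (Tr.leaf [0,2,0,2,0,1,2,3,2,0,1,0,3,2,0,2]) (Tr.leaf [4,0,4,3,2,1,0,1,2,1,4,0,4,0,4,0,4,1,0,2,0,3,4,0,3,4,0,4,0])))) (Tr.node (Tr.node (Tr.node (Tr.leaf [1,1,1,2,3,2,3,2,3,2]) (Tr.leaf [1,0,4,2,3,0,1,1,2,3,0,4,0,2])) (Tr.node (Tr.leaf [2,0,3,0,1,1,0,1,2,1,0,3,0,3,3,0]) (Tr.leaf [3,2,3,0,4,0,4,2,3,0,2,1,0,2,0,4,0,4,0,1,2,4]))) (Tr.node (Tr.node (Tr.leaf [3,0,1,0,3,0,2,3,2,3,3,2]) (Tr.leaf [4,1,2,3,0,2,3,0,4,0,4,1,2,3,0,2,3,0,4,0])) (Tr.node (Tr.leaf [1,0,3,2,0,2,3,2,3,2,0,3,2,3,0,2]) (Tr.leaf []))))))) (Tr.node (Tr.node (Tr.node (Tr.node (Tr.node (Tr.node (Tr.leaf [3,3,3,3]) (Tr.leaf [0,2,3,2,1,0,2,1,0,3,2,0,3,2,1,2])) (Tr.node (Tr.leaf [2,0,3,2,1,0,2,0,3,2,1,0])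 (Tr.leaf [4,0,4,0,4,3,2,0,2,1,4,0,4,0,4,0,3,0,2,0,1,0,2,0,2]))) (Tr.node (Tr.node (Tr.leaf [1,2,3,3,2,3,3,2,3,2]) (Tr.leaf [0,4,3,3,0,1,0,3,0,4,0,4,3,2,0,2,1,4])) (Tr.node (Tr.leaf [2,1,0,3,2,0,3,0,2,1,2,0,3,2,0,1]) (Tr.leaf [4,1,2,3,0,4,0,4,0,4,1,0,2,1,0,3,4,0,4,0,4,0,1,2])))) (Tr.node (Tr.node (Tr.node (Tr.leaf [0,1,0,3,3,0,3,3,0,3]) (Tr.leaf [2,0,4,1,4,3,0,2,3,0,3,0])) (Tr.node (Tr.leaf [0,2,1,0,3,2,0,1,2,1,0,3,2,3]) (Tr.leaf [2,1,0,3,4,0,4,0,4,0,1,1,2,1,1,0,2,0,2,4,0,4,0,4,1,0,2,1]))) (Tr.node (Tr.node (Tr.leaf [1,0,1,0,2,1,2,3,2,1,0,1]) (Tr.leaf [4,0,4,0,3,2,1,0,1,2,0,2,0,1,4,0,4,1,0,2,1,0,3])) (Tr.node (Tr.leaf [0,1,2,0,1,1,0,2,3,0,2,0,1,1,0,2]) (Tr.leaf []))))) (Tr.node (Tr.node (Tr.node (Tr.node (Tr.leaf [1,0,1,1,0,1,1,0,3,0])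 (Tr.leaf [0,2,3,3,0,3,2,0,3,2,0,3,0,2,3,0,2])) (Tr.node (Tr.leaf [1,0,1,1,0,1,0,3,2,1,2,3,2,1]) (Tr.leaf [2,0,2,0,3,4,0,4,0,4,1,0,2,0,1,0,2,0,1,0,4,0,4,0,4,0,1,1]))) (Tr.node (Tr.node (Tr.leaf [2,3,2,0,1,1,0,1,0,1,2,1]) (Tr.leaf [4,0,4,1,0,3,2,0,3,4,0,4,3,0,2,0,2,3,0,3,2,1,0])) (Tr.node (Tr.leaf [0,3,2,3,0,1,0,3,0,3,2,0,3,3,0,1]) (Tr.leaf [1,0,2,0,3,4,0,3,4,0,4,0,4,0,4,3,2,1,0,1,2,1,4,0,4,0,4,0,4])))) (Tr.node (Tr.node (Tr.node (Tr.leaf [2,0,2,0,2,0,2,0,2,0]) (Tr.leaf [2,3,0,1,1,2,3,0,4,0,2,1,0,4])) (Tr.node (Tr.leaf [0,1,1,0,1,0,3,2,3,0,3,3,0,1,0,2]) (Tr.leaf [4,1,2,1,0,1,1,2,1,0,1,2,4,0,1,2,4,2,3,0]))) (Tr.node (Tr.node (Tr.leaf [0,3,0,1,1,0,2,3,3,2,1,2]) (Tr.leaf [1,2,3,0,2,3,0,4,0,4,1,2,3,0,2,3,0,4,0,4])) (Tr.node (Tr.leaf [2,0,3,3,2,1,2,3,2,0,1,1,2,1,2,3])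 (Tr.leaf [])))))) (Tr.node (Tr.node (Tr.node (Tr.node (Tr.node (Tr.leaf [3,0,3,0,3,0,3,0]) (Tr.leaf [0,3,2,0,3,2,0,1,0,1,2,0,2,0,1,1,2])) (Tr.node (Tr.leaf [2,1,2,1,0,3,3,0,1,0,1,2,1,1]) (Tr.leaf [2,3,3,0,4,0,4,0,4,0,3,0,2,0,3,0,2,0,3,4,0,4,0,4,1,0,2,0]))) (Tr.node (Tr.node (Tr.leaf [2,1,1,2,3,2,1,2,3,3]) (Tr.leaf [0,1,1,4,0,4,3,2,0,2,1,4,0,4,0,1,0,3])) (Tr.node (Tr.leaf [3,0,1,0,3,0,3,2,3,0,1,1,0,1,0,2]) (Tr.leaf [0,4,1,0,4,1,0,2,0,3,4,0,4,0,4,0,4,3,2,3,0,3,2,1,4,0,4,0,4])))) (Tr.node (Tr.node (Tr.node (Tr.leaf [1,2,3,2,0,1,0,3,0,2]) (Tr.leaf [4,0,3,2,0,4,0,1,2,3,3,0,1,2])) (Tr.node (Tr.leaf [2,0,2,3,2,3,0,2,0,2,3,2,3,0]) (Tr.leaf [0,4,0,4,0,4,0,4,0,4,0,4,0,4,0,4]))) (Tr.node (Tr.node (Tr.leaf [2,3,2,1,1,2,0,1,1,0,1,0]) (Tr.leaf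 [4,0,4,0,1,2,0,1,2,3,4,0,4,0,1,2,0,1,2,3])) (Tr.node (Tr.leaf [0,3,2,3,0,2,0,3,3,0,2,0,3,2,1,2]) (Tr.leaf []))))) (Tr.node (Tr.node (Tr.node (Tr.node (Tr.leaf [3,0,1,0,1,1,0,1,1,0]) (Tr.leaf [0,2,0,3,3,2,1,0,3,0,2,0,2,1,2,0,3])) (Tr.node (Tr.leaf [3,2,3,0,2,0,1,2,1,0,2,0,2,0]) (Tr.leaf [0,4,2,0,2,0,3,3,2,3,3,0,4,0,4,0,4,1,0,3,2,3,2,0,3,4,0,4]))) (Tr.node (Tr.node (Tr.leaf [2,0,3,3,0,1,0,1,2,1,2,3]) (Tr.leaf [2,3,0,3,2,1,0,4,0,4,1,0,3,2,0,3,4,0,4,3,0,2,0])) (Tr.node (Tr.leaf [2,0,2,1,0,3,0,2,1,2,3,0,2,0,2,0]) (Tr.leaf [2,2])))) (Tr.node (Tr.node (Tr.node (Tr.leaf [3,3,3,2,1,2,1,2,1,2]) (Tr.leaf [0,4,3,2,0,2,1,4,0,4,3,3,0,1,0,3,0,4])) (Tr.node (Tr.leaf [0,3,3,0,1,0,3,2,3,0,1,1,0,1,0,2]) (Tr.leaf [2,1,0,2,0,4,0,4,0,1,2,4,3,2,3,0,4,0,4,2,3,0])))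 (Tr.node (Tr.node (Tr.leaf [1,2,3,2,3,0,1,0,3,0,1,2]) (Tr.leaf [4,0,4,2,0,2,0,3,0,2,0,1,0,4,0,4,0,4,3,2,0,2,1,4,0])) (Tr.node (Tr.leaf [1,2,3,2,1,1,2,0,1,2,1,2,3,2,1,0]) (Tr.leaf [])))))))) (Tr.node (Tr.node (Tr.node (Tr.node (Tr.node (Tr.node (Tr.node (Tr.leaf [1,1,1,1]) (Tr.leaf [0,2,0,2,3,2,1,0,2,0,3,2,1,2,0,2])) (Tr.node (Tr.leaf [3,0,3,2,3,2,3,3,2,0,1,0]) (Tr.leaf [3,0,2,0,1,0,2,0,2,4,0,4,0,4,3,2,0,2,1,4,0,4,0,4,0]))) (Tr.node (Tr.node (Tr.leaf [2,1,2,1,1,2,1,1,2,3]) (Tr.leaf [1,4,0,4,3,3,0,1,0,3,0,4,0,4,3,2,0,2])) (Tr.node (Tr.leaf [2,0,1,2,1,0,3,2,0,3,0,2,1,2,0,3]) (Tr.leaf [0,4,0,2,0,3,2,0,1,2,4,0,4,0,1,2,1,4,2,3,0,4])))) (Tr.node (Tr.node (Tr.node (Tr.leaf [3,0,3,0,1,0,3,3,0,3]) (Tr.leaf [2,3,0,3,0,2,0,4,1,4,3,0])) (Tr.node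 (Tr.leaf [0,3,2,3,0,2,1,0,3,2,0,1,2,1]) (Tr.leaf [2,4,0,4,0,4,1,0,2,1,2,1,0,3,4,0,4,0,4,0,1,1,2,1,1,0,2,0]))) (Tr.node (Tr.node (Tr.leaf [2,1,2,3,2,1,0,1,1,0,1,0]) (Tr.leaf [0,2,1,0,3,4,0,4,0,3,2,1,0,1,2,0,2,0,1,4,0,4,1])) (Tr.node (Tr.leaf [0,2,0,3,2,0,1,1,0,1,2,0,1,2,1,2]) (Tr.leaf []))))) (Tr.node (Tr.node (Tr.node (Tr.node (Tr.leaf [3,2,3,2,3,2,3,2]) (Tr.leaf [1,0,1,1,2,0,2,0,1,2,0,1,0,2,1,0,2])) (Tr.node (Tr.leaf [2,3,3,0,1,0,3,0,1,2,3,2,3,3]) (Tr.leaf [4,0,1,1,2,0,2,0,3,4,0,4,0,4,1,0,2,0,1,0,2,0,1,0,4,0,4,0]))) (Tr.node (Tr.node (Tr.leaf [1,0,1,2,1,2,3,2,0,1,1,0]) (Tr.leaf [1,4,0,4,0,1,0,3,0,1,1,4,0,4,3,2,0,2])) (Tr.node (Tr.leaf [0,3,0,2,1,0,3,0,1,1,0,2,3,3,0,1]) (Tr.leaf [3,2,1,0,1,2,1,4,0,4,0,4,0,4,1,0,2,0,3,4,0,3,4,0,4,0,4,0,4]))))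 (Tr.node (Tr.node (Tr.node (Tr.leaf [2,0,2,0,2,0,2,0,2,0]) (Tr.leaf [0,1,2,3,3,0,1,2,4,0,3,2,0,4])) (Tr.node (Tr.leaf [2,0,1,0,3,0,1,1,2,3,0,1,1,0,1,0]) (Tr.leaf [4,0,1,2,4,2,3,0,4,1,2,1,0,1,1,2,1,0,1,2]))) (Tr.node (Tr.node (Tr.leaf [0,3,0,3,3,0,2,3,3,2,1,2]) (Tr.leaf [0,4,1,2,3,0,2,3,0,4,0,4,1,2,3,0,2,3,0,4])) (Tr.node (Tr.leaf [2,3,3,2,1,0,1,1,2,1,2,3,2,0,2,3]) (Tr.leaf [])))))) (Tr.node (Tr.node (Tr.node (Tr.node (Tr.node (Tr.leaf [3,0,3,0,3,0,3,0]) (Tr.leaf [2,1,2,0,3,2,3,3,2,1,2,0,3,2,3,3])) (Tr.node (Tr.leaf [2,3,3,0,3,0,1,1,0,2,3,2,3,3]) (Tr.leaf [2,0,2,3,3,0,4,0,4,0,4,0,3,0,2,0,3,0,2,0,3,4,0,4,0,4,1,0]))) (Tr.node (Tr.node (Tr.leaf [2,1,2,3,3,2,1,1,2,3]) (Tr.leaf [0,3,0,1,1,4,0,4,3,2,0,2,1,4,0,4,0,1])) (Tr.node (Tr.leaf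 [2,1,2,3,2,0,2,1,2,3,2,0,3,0,1,0]) (Tr.leaf [4,2,3,0,4,0,4,0,4,1,0,3,2,0,3,4,0,4,0,4,0,1,2,3])))) (Tr.node (Tr.node (Tr.node (Tr.leaf [0,2,1,2,3,2,0,1,0,3]) (Tr.leaf [3,4,0,2,0,1,0,1,2,0,1,4])) (Tr.node (Tr.leaf [2,0,1,2,1,2,0,2,0,1,2,1,2,0]) (Tr.leaf [4,0,4,0,4,0,4,0,4,0,4,0,4,0,4,0]))) (Tr.node (Tr.node (Tr.leaf [0,1,1,0,3,2,1,2,3,2,0,3]) (Tr.leaf [1,2,3,4,0,4,0,1,2,0,1,2,3,4,0,4,0,1,2,0])) (Tr.node (Tr.leaf [0,1,2,1,0,2,3,2,1,0,2,0,1,1,0,2]) (Tr.leaf []))))) (Tr.node (Tr.node (Tr.node (Tr.node (Tr.leaf [1,0,3,0,1,0,1,1,0,1]) (Tr.leaf [0,1,2,3,2,0,2,1,1,0,2,0,1,0,2,3,2])) (Tr.node (Tr.leaf [0,2,0,3,2,3,0,2,0,1,2,1,0,2]) (Tr.leaf [0,4,0,4,2,0,2,0,3,3,2,3,3,0,4,0,4,0,4,1,0,3,2,3,2,0,3,4]))) (Tr.node (Tr.node (Tr.leaf [3,0,3,3,0,2,1,2,3,2,3,0])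 (Tr.leaf [4,3,0,2,0,2,3,0,3,2,1,0,4,0,4,1,0,3,2,0,3,4,0])) (Tr.node (Tr.leaf [1,2,3,0,2,0,2,0,2,0,2,1,0,3,0,2]) (Tr.leaf [0,0])))) (Tr.node (Tr.node (Tr.node (Tr.leaf [2,3,2,3,2,1,1,1,2,3]) (Tr.leaf [4,2,3,0,1,1,2,3,0,4,0,2,1,0])) (Tr.node (Tr.leaf [2,0,2,1,0,2,0,1,0,2,0,3,0,2,0,3]) (Tr.leaf [4,0,4,2,3,0,2,1,0,2,0,4,0,4,0,1,2,4,3,2,3,0]))) (Tr.node (Tr.node (Tr.leaf [0,3,0,1,2,1,2,3,2,3,0,1]) (Tr.leaf [2,0,2,1,4,0,4,0,4,2,0,2,0,3,0,2,0,1,0,4,0,4,0,4,3])) (Tr.node (Tr.leaf [0,3,2,3,0,2,1,0,3,2,0,2,3,2,3,2]) (Tr.leaf []))))))) (Tr.node (Tr.node (Tr.node (Tr.node (Tr.node (Tr.node (Tr.leaf [1,0,1,0,1,0,1,0]) (Tr.leaf [0,2,3,2,0,2,1,2,0,2,3,2,0,2,1,2])) (Tr.node (Tr.leaf [3,2,1,0,2,0,3,2,1,0,2,0]) (Tr.leaf [4,0,4,1,0,2,0,2,3,3,0,4,0,4,0,4,0,3,0,2,0,3,0,2,0,3,4,0])))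 (Tr.node (Tr.node (Tr.leaf [3,3,2,3,3,2,3,2,1,2]) (Tr.leaf [3,3,0,1,0,3,0,4,0,4,3,2,0,2,1,4,0,4])) (Tr.node (Tr.leaf [3,3,0,1,0,2,1,2,0,2,0,3,2,1,0,2]) (Tr.leaf [2,3,0,4,0,4,0,4,1,0,2,1,0,3,4,0,4,0,4,0,1,2,4,1])))) (Tr.node (Tr.node (Tr.node (Tr.leaf [0,1,0,3,0,2,1,2,3,2]) (Tr.leaf [0,1,0,1,2,0,1,4,3,4,0,2])) (Tr.node (Tr.leaf [1,0,3,2,0,1,2,1,0,3,2,3,0,2]) (Tr.leaf [4,0,4,0,4,0,1,1,2,1,1,0,2,0,2,4,0,4,0,4,1,0,2,1,2,1,0,3]))) (Tr.node (Tr.node (Tr.leaf [0,3,2,1,2,3,2,0,3,0,3,3]) (Tr.leaf [4,0,3,2,1,0,1,2,0,2,0,1,4,0,4,1,0,2,1,0,3,4,0])) (Tr.node (Tr.leaf [2,0,1,1,0,2,3,0,2,0,1,1,0,2,0,1]) (Tr.leaf []))))) (Tr.node (Tr.node (Tr.node (Tr.node (Tr.leaf [1,1,0,1,1,0,3,0,1,0]) (Tr.leaf [2,3,0,2,0,2,1,1,0,3,2,0,3,2,0,3,0])) (Tr.node (Tr.leaf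 [1,0,3,0,3,3,0,3,2,3,3,2,1,2]) (Tr.leaf [0,4,1,0,2,0,1,0,2,0,1,0,4,0,4,0,4,0,1,1,2,0,2,0,3,4,0,4]))) (Tr.node (Tr.node (Tr.leaf [0,1,1,0,1,0,1,2,1,2,3,2]) (Tr.leaf [1,0,3,2,0,3,4,0,4,3,0,2,0,2,3,0,3,2,1,0,4,0,4])) (Tr.node (Tr.leaf [2,0,3,2,3,0,1,0,3,2,0,1,2,1,2,0]) (Tr.leaf [0,3,4,0,3,4,0,4,0,4,0,4,3,2,1,0,1,2,1,4,0,4,0,4,0,4,1,0,2])))) (Tr.node (Tr.node (Tr.node (Tr.leaf [2,0,2,0,2,0,2,0,2,0]) (Tr.leaf [0,2,1,0,4,2,3,0,1,1,2,3,0,4])) (Tr.node (Tr.leaf [3,2,3,0,3,3,0,1,0,2,0,1,1,0,1,0]) (Tr.leaf [2,4,3,2,3,0,4,0,4,2,3,0,2,1,0,2,0,4,0,4,0,1]))) (Tr.node (Tr.node (Tr.leaf [2,1,2,0,1,0,3,0,1,2,1,1]) (Tr.leaf [2,3,0,4,0,4,1,2,3,0,2,3,0,4,0,4,1,2,3,0])) (Tr.node (Tr.leaf [1,0,2,0,2,1,2,1,2,3,3,0,2,0,3,2]) (Tr.leaf [])))))) (Tr.node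 (Tr.node (Tr.node (Tr.node (Tr.node (Tr.leaf [1,2,1,2,1,2,1,2]) (Tr.leaf [2,3,0,3,0,2,1,0,2,1,0,2,3,3,0,2,0])) (Tr.node (Tr.leaf [0,3,0,1,1,0,3,3,0,1,0,3,0,1]) (Tr.leaf [0,4,0,4,0,3,0,2,0,3,0,2,0,3,4,0,4,0,4,1,0,2,0,2,3,3,0,4]))) (Tr.node (Tr.node (Tr.leaf [1,1,1,0,2,1,2,3,2,0,1,0]) (Tr.leaf [4,0,4,3,2,0,2,1,4,0,4,0,1,0,3,0,1,1])) (Tr.node (Tr.leaf [2,3,0,3,3,0,1,0,2,3,0,1,1,0,1,0]) (Tr.leaf [1,0,4,1,0,2,0,3,4,0,4,0,4,0,4,3,2,3,0,3,2,1,4,0,4,0,4,0,4])))) (Tr.node (Tr.node (Tr.node (Tr.leaf [3,2,0,1,0,3,0,2,1,2]) (Tr.leaf [3,2,0,4,0,1,2,3,3,0,1,2,4,0])) (Tr.node (Tr.leaf [0,2,0,2,3,2,3,0,2,0,1,2,1,2]) (Tr.leaf [4,2,3,0,4,2,3,0,3,2,3,3,0,3,2,3,4,0,1,2]))) (Tr.node (Tr.node (Tr.leaf [1,0,1,0,2,3,2,1,1,2,0,1]) (Tr.leaf [0,2,3,0,4,0,4,1,2,3,0,2,3,0,4,0,4,1,2,3]))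 (Tr.node (Tr.leaf [0,1,1,2,1,2,3,2,0,2,3,2,1,1,2,1]) (Tr.leaf []))))) (Tr.node (Tr.node (Tr.node (Tr.node (Tr.leaf [3,3,0,3,3,0,3,0,1,0]) (Tr.leaf [4,1,4,3,0,2,3,0,3,0,2,0])) (Tr.node (Tr.leaf [2,0,1,2,1,0,2,0,2,0,3,2,3,0]) (Tr.leaf [0,2,0,3,3,2,3,3,0,4,0,4,0,4,1,0,3,2,3,2,0,3,4,0,4,0,4,2]))) (Tr.node (Tr.node (Tr.leaf [1,0,2,1,2,3,2,3,0,3,0,1]) (Tr.leaf [0,1,4,0,4,1,0,2,1,0,3,4,0,4,0,3,2,1,0,1,2,0,2])) (Tr.node (Tr.leaf [0,2,0,2,3,2,1,0,1,0,3,2,0,3,2,1]) (Tr.leaf [4,4])))) (Tr.node (Tr.node (Tr.node (Tr.leaf [2,1,1,2,3,2,1,2,1,1]) (Tr.leaf [3,2,0,2,1,4,0,4,3,3,0,1,0,3,0,4,0,4])) (Tr.node (Tr.leaf [2,0,3,0,3,3,0,1,2,3,0,1,0,3,0,3]) (Tr.leaf [1,4,2,3,0,4,0,4,0,2,0,3,2,0,1,2,4,0,4,0,1,2]))) (Tr.node (Tr.node (Tr.leaf [3,0,2,1,1,2,1,2,1,0,1,0])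 (Tr.leaf [2,0,2,0,3,0,2,0,1,0,4,0,4,0,4,3,2,0,2,1,4,0,4,0,4])) (Tr.node (Tr.leaf [2,3,2,1,0,3,3,2,1,2,3,2,0,1,2,1]) (Tr.leaf []))))))))))

/-- The witnesses of the rotations. -/
noncomputable def witT : Tr (Nat × Nat × Bool) := (Tr.node (Tr.node (Tr.node (Tr.node (Tr.node (Tr.node (Tr.node (Tr.node (Tr.node (Tr.leaf (0,0,false)) (Tr.leaf (89,8,false))) (Tr.node (Tr.leaf (31,11,false)) (Tr.leaf (111,16,false)))) (Tr.node (Tr.node (Tr.leaf (19,3,false)) (Tr.leaf (108,4,false))) (Tr.node (Tr.leaf (57,8,false)) (Tr.leaf (116,15,true))))) (Tr.node (Tr.node (Tr.node (Tr.leaf (13,3,true)) (Tr.leaf (106,1,false))) (Tr.node (Tr.leaf (46,0,false)) (Tr.leaf (113,24,false)))) (Tr.node (Tr.node (Tr.leaf (24,3,true)) (Tr.leaf (109,11,true)))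 (Tr.node (Tr.leaf (73,6,true)) (Tr.leaf (0,0,false)))))) (Tr.node (Tr.node (Tr.node (Tr.node (Tr.leaf (12,0,true)) (Tr.leaf (98,12,false))) (Tr.node (Tr.leaf (38,8,false)) (Tr.leaf (112,15,false)))) (Tr.node (Tr.node (Tr.leaf (22,5,false)) (Tr.leaf (108,8,true))) (Tr.node (Tr.leaf (66,6,false)) (Tr.leaf (118,8,false))))) (Tr.node (Tr.node (Tr.node (Tr.leaf (15,9,false)) (Tr.leaf (107,3,false))) (Tr.node (Tr.leaf (49,10,true)) (Tr.leaf (115,5,false)))) (Tr.node (Tr.node (Tr.leaf (27,3,true)) (Tr.leaf (110,4,true))) (Tr.node (Tr.leaf (80,4,true)) (Tr.leaf (0,0,false))))))) (Tr.node (Tr.node (Tr.node (Tr.node (Tr.node (Tr.leaf (11,2,false)) (Tr.leaf (95,7,false))) (Tr.node (Tr.leaf (33,5,false)) (Tr.leaf (112,3,false)))) (Tr.node (Tr.node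 (Tr.leaf (19,7,true)) (Tr.leaf (108,14,false))) (Tr.node (Tr.leaf (61,3,false)) (Tr.leaf (117,13,false))))) (Tr.node (Tr.node (Tr.node (Tr.leaf (15,1,false)) (Tr.leaf (106,6,true))) (Tr.node (Tr.leaf (46,13,false)) (Tr.leaf (113,25,true)))) (Tr.node (Tr.node (Tr.leaf (25,4,true)) (Tr.leaf (110,1,false))) (Tr.node (Tr.leaf (77,12,false)) (Tr.leaf (0,0,false)))))) (Tr.node (Tr.node (Tr.node (Tr.node (Tr.leaf (13,4,false)) (Tr.leaf (101,5,true))) (Tr.node (Tr.leaf (43,3,true)) (Tr.leaf (113,3,false)))) (Tr.node (Tr.node (Tr.leaf (23,11,false)) (Tr.leaf (109,8,false))) (Tr.node (Tr.leaf (71,6,true)) (Tr.leaf (118,22,true))))) (Tr.node (Tr.node (Tr.node (Tr.leaf (17,0,true)) (Tr.leaf (107,10,true))) (Tr.node (Tr.leaf (53,5,true)) (Tr.leaf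 (116,6,false)))) (Tr.node (Tr.node (Tr.leaf (29,5,true)) (Tr.leaf (110,18,true))) (Tr.node (Tr.leaf (85,5,false)) (Tr.leaf (0,0,false)))))))) (Tr.node (Tr.node (Tr.node (Tr.node (Tr.node (Tr.node (Tr.leaf (10,1,true)) (Tr.leaf (93,6,false))) (Tr.node (Tr.leaf (32,3,false)) (Tr.leaf (111,8,true)))) (Tr.node (Tr.node (Tr.leaf (19,1,true)) (Tr.leaf (108,8,false))) (Tr.node (Tr.leaf (58,6,true)) (Tr.leaf (117,7,false))))) (Tr.node (Tr.node (Tr.node (Tr.leaf (13,8,true)) (Tr.leaf (106,6,false))) (Tr.node (Tr.leaf (46,5,false)) (Tr.leaf (113,10,true)))) (Tr.node (Tr.node (Tr.leaf (25,8,false)) (Tr.leaf (109,19,true))) (Tr.node (Tr.leaf (76,10,true)) (Tr.leaf (0,0,false)))))) (Tr.node (Tr.node (Tr.node (Tr.node (Tr.leaf (13,0,false)) (Tr.leaf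 (100,0,true))) (Tr.node (Tr.leaf (40,2,true)) (Tr.leaf (112,16,true)))) (Tr.node (Tr.node (Tr.leaf (23,4,false)) (Tr.leaf (108,16,true))) (Tr.node (Tr.leaf (69,9,true)) (Tr.leaf (118,7,true))))) (Tr.node (Tr.node (Tr.node (Tr.leaf (17,2,false)) (Tr.leaf (107,9,false))) (Tr.node (Tr.leaf (52,4,false)) (Tr.leaf (115,12,true)))) (Tr.node (Tr.node (Tr.leaf (28,2,true)) (Tr.leaf (110,9,true))) (Tr.node (Tr.leaf (82,15,false)) (Tr.leaf (0,0,false))))))) (Tr.node (Tr.node (Tr.node (Tr.node (Tr.node (Tr.leaf (11,1,true)) (Tr.leaf (97,9,false))) (Tr.node (Tr.leaf (35,10,false)) (Tr.leaf (112,8,false)))) (Tr.node (Tr.node (Tr.leaf (20,7,false)) (Tr.leaf (108,3,true))) (Tr.node (Tr.leaf (62,8,false)) (Tr.leaf (117,22,true))))) (Tr.node (Tr.node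 (Tr.node (Tr.leaf (15,5,false)) (Tr.leaf (106,11,true))) (Tr.node (Tr.leaf (47,7,false)) (Tr.leaf (114,8,false)))) (Tr.node (Tr.node (Tr.leaf (27,2,false)) (Tr.leaf (110,9,false))) (Tr.node (Tr.leaf (78,14,false)) (Tr.leaf (0,0,false)))))) (Tr.node (Tr.node (Tr.node (Tr.node (Tr.leaf (13,8,false)) (Tr.leaf (104,10,true))) (Tr.node (Tr.leaf (45,8,false)) (Tr.leaf (113,15,false)))) (Tr.node (Tr.node (Tr.leaf (23,11,true)) (Tr.leaf (109,14,false))) (Tr.node (Tr.leaf (72,5,true)) (Tr.leaf (119,1,false))))) (Tr.node (Tr.node (Tr.node (Tr.leaf (18,0,true)) (Tr.leaf (108,0,false))) (Tr.node (Tr.leaf (54,11,false)) (Tr.leaf (116,16,false)))) (Tr.node (Tr.node (Tr.leaf (30,3,false)) (Tr.leaf (111,7,false))) (Tr.node (Tr.leaf (86,1,false))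 (Tr.leaf (0,0,false))))))))) (Tr.node (Tr.node (Tr.node (Tr.node (Tr.node (Tr.node (Tr.node (Tr.leaf (10,2,false)) (Tr.leaf (91,4,false))) (Tr.node (Tr.leaf (31,9,true)) (Tr.leaf (111,21,false)))) (Tr.node (Tr.node (Tr.leaf (19,6,false)) (Tr.leaf (108,6,false))) (Tr.node (Tr.leaf (58,1,true)) (Tr.leaf (116,19,true))))) (Tr.node (Tr.node (Tr.node (Tr.leaf (13,5,true)) (Tr.leaf (106,3,false))) (Tr.node (Tr.leaf (46,3,false)) (Tr.leaf (113,3,true)))) (Tr.node (Tr.node (Tr.leaf (25,2,false)) (Tr.leaf (109,14,true))) (Tr.node (Tr.leaf (75,6,false)) (Tr.leaf (0,0,false)))))) (Tr.node (Tr.node (Tr.node (Tr.node (Tr.leaf (12,2,true)) (Tr.leaf (100,0,false))) (Tr.node (Tr.leaf (39,5,false)) (Tr.leaf (112,12,true)))) (Tr.node (Tr.node (Tr.leaf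 (22,1,true)) (Tr.leaf (108,13,true))) (Tr.node (Tr.leaf (67,0,true)) (Tr.leaf (118,22,false))))) (Tr.node (Tr.node (Tr.node (Tr.leaf (16,7,false)) (Tr.leaf (107,5,false))) (Tr.node (Tr.leaf (50,1,true)) (Tr.leaf (115,9,false)))) (Tr.node (Tr.node (Tr.leaf (27,7,true)) (Tr.leaf (110,7,true))) (Tr.node (Tr.leaf (80,13,true)) (Tr.leaf (0,0,false))))))) (Tr.node (Tr.node (Tr.node (Tr.node (Tr.node (Tr.leaf (11,7,false)) (Tr.leaf (95,12,false))) (Tr.node (Tr.leaf (34,8,false)) (Tr.leaf (112,5,false)))) (Tr.node (Tr.node (Tr.leaf (20,1,false)) (Tr.leaf (108,16,false))) (Tr.node (Tr.leaf (61,13,true)) (Tr.leaf (117,14,true))))) (Tr.node (Tr.node (Tr.node (Tr.leaf (15,3,false)) (Tr.leaf (106,9,true))) (Tr.node (Tr.leaf (47,5,false)) (Tr.leaf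 (114,1,false)))) (Tr.node (Tr.node (Tr.leaf (25,9,true)) (Tr.leaf (110,3,false))) (Tr.node (Tr.leaf (77,1,true)) (Tr.leaf (0,0,false)))))) (Tr.node (Tr.node (Tr.node (Tr.node (Tr.leaf (13,6,false)) (Tr.leaf (103,5,false))) (Tr.node (Tr.leaf (45,2,false)) (Tr.leaf (113,8,false)))) (Tr.node (Tr.node (Tr.leaf (23,8,true)) (Tr.leaf (109,10,false))) (Tr.node (Tr.leaf (72,11,false)) (Tr.leaf (118,27,true))))) (Tr.node (Tr.node (Tr.node (Tr.leaf (18,3,false)) (Tr.leaf (107,12,true))) (Tr.node (Tr.leaf (54,3,false)) (Tr.leaf (116,8,false)))) (Tr.node (Tr.node (Tr.leaf (29,10,true)) (Tr.leaf (111,2,false))) (Tr.node (Tr.leaf (85,10,true)) (Tr.leaf (0,0,false)))))))) (Tr.node (Tr.node (Tr.node (Tr.node (Tr.node (Tr.node (Tr.leaf (10,3,true))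 (Tr.leaf (95,1,false))) (Tr.node (Tr.leaf (33,2,false)) (Tr.leaf (112,0,false)))) (Tr.node (Tr.node (Tr.leaf (19,4,true)) (Tr.leaf (108,10,false))) (Tr.node (Tr.leaf (59,2,true)) (Tr.leaf (117,9,false))))) (Tr.node (Tr.node (Tr.node (Tr.leaf (14,5,false)) (Tr.leaf (106,0,true))) (Tr.node (Tr.leaf (46,9,false)) (Tr.leaf (113,22,true)))) (Tr.node (Tr.node (Tr.leaf (25,0,true)) (Tr.leaf (109,21,true))) (Tr.node (Tr.leaf (77,6,false)) (Tr.leaf (0,0,false)))))) (Tr.node (Tr.node (Tr.node (Tr.node (Tr.leaf (13,2,false)) (Tr.leaf (100,5,true))) (Tr.node (Tr.leaf (42,9,false)) (Tr.leaf (112,22,true)))) (Tr.node (Tr.node (Tr.leaf (23,8,false)) (Tr.leaf (109,1,false))) (Tr.node (Tr.leaf (71,10,false)) (Tr.leaf (118,16,true))))) (Tr.node (Tr.node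 (Tr.node (Tr.leaf (17,7,false)) (Tr.leaf (107,8,true))) (Tr.node (Tr.leaf (53,5,false)) (Tr.leaf (116,2,false)))) (Tr.node (Tr.node (Tr.leaf (29,5,false)) (Tr.leaf (110,11,true))) (Tr.node (Tr.leaf (84,8,false)) (Tr.leaf (0,0,false))))))) (Tr.node (Tr.node (Tr.node (Tr.node (Tr.node (Tr.leaf (12,1,false)) (Tr.leaf (97,16,false))) (Tr.node (Tr.leaf (37,12,false)) (Tr.leaf (112,10,false)))) (Tr.node (Tr.node (Tr.leaf (21,2,false)) (Tr.leaf (108,5,true))) (Tr.node (Tr.leaf (64,4,false)) (Tr.leaf (118,6,false))))) (Tr.node (Tr.node (Tr.node (Tr.leaf (15,7,false)) (Tr.leaf (107,1,false))) (Tr.node (Tr.leaf (47,3,true)) (Tr.leaf (115,0,false)))) (Tr.node (Tr.node (Tr.leaf (27,9,false)) (Tr.leaf (110,11,false))) (Tr.node (Tr.leaf (79,1,false))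 (Tr.leaf (0,0,false)))))) (Tr.node (Tr.node (Tr.node (Tr.node (Tr.leaf (13,1,true)) (Tr.leaf (105,0,true))) (Tr.node (Tr.leaf (45,11,false)) (Tr.leaf (113,18,false)))) (Tr.node (Tr.node (Tr.leaf (24,10,false)) (Tr.leaf (109,0,true))) (Tr.node (Tr.leaf (73,3,false)) (Tr.leaf (119,3,false))))) (Tr.node (Tr.node (Tr.node (Tr.leaf (19,1,false)) (Tr.leaf (108,2,false))) (Tr.node (Tr.leaf (55,12,true)) (Tr.leaf (116,10,true)))) (Tr.node (Tr.node (Tr.leaf (30,9,false)) (Tr.leaf (111,13,false))) (Tr.node (Tr.leaf (87,11,true)) (Tr.leaf (0,0,false)))))))))) (Tr.node (Tr.node (Tr.node (Tr.node (Tr.node (Tr.node (Tr.node (Tr.node (Tr.leaf (10,1,false)) (Tr.leaf (90,0,false))) (Tr.node (Tr.leaf (31,2,true)) (Tr.leaf (111,17,false)))) (Tr.node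 (Tr.node (Tr.leaf (19,5,false)) (Tr.leaf (108,5,false))) (Tr.node (Tr.leaf (58,10,false)) (Tr.leaf (116,16,true))))) (Tr.node (Tr.node (Tr.node (Tr.leaf (13,4,true)) (Tr.leaf (106,2,false))) (Tr.node (Tr.leaf (46,1,false)) (Tr.leaf (113,26,false)))) (Tr.node (Tr.node (Tr.leaf (24,4,true)) (Tr.leaf (109,12,true))) (Tr.node (Tr.leaf (74,5,false)) (Tr.leaf (0,0,false)))))) (Tr.node (Tr.node (Tr.node (Tr.node (Tr.leaf (12,1,true)) (Tr.leaf (99,2,true))) (Tr.node (Tr.leaf (38,9,false)) (Tr.leaf (112,17,false)))) (Tr.node (Tr.node (Tr.leaf (22,7,false)) (Tr.leaf (108,12,true))) (Tr.node (Tr.leaf (66,12,true)) (Tr.leaf (118,21,false))))) (Tr.node (Tr.node (Tr.node (Tr.leaf (16,5,false)) (Tr.leaf (107,4,false))) (Tr.node (Tr.leaf (50,14,false))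 (Tr.leaf (115,8,false)))) (Tr.node (Tr.node (Tr.leaf (27,4,true)) (Tr.leaf (110,5,true))) (Tr.node (Tr.leaf (80,7,true)) (Tr.leaf (0,0,false))))))) (Tr.node (Tr.node (Tr.node (Tr.node (Tr.node (Tr.leaf (11,5,false)) (Tr.leaf (95,8,false))) (Tr.node (Tr.leaf (33,6,false)) (Tr.leaf (112,4,false)))) (Tr.node (Tr.node (Tr.leaf (19,8,true)) (Tr.leaf (108,15,false))) (Tr.node (Tr.leaf (61,12,true)) (Tr.leaf (117,16,false))))) (Tr.node (Tr.node (Tr.node (Tr.leaf (15,2,false)) (Tr.leaf (106,7,true))) (Tr.node (Tr.leaf (47,1,false)) (Tr.leaf (113,26,true)))) (Tr.node (Tr.node (Tr.leaf (25,8,true)) (Tr.leaf (110,2,false))) (Tr.node (Tr.leaf (77,15,false)) (Tr.leaf (0,0,false)))))) (Tr.node (Tr.node (Tr.node (Tr.node (Tr.leaf (13,5,false))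 (Tr.leaf (102,10,true))) (Tr.node (Tr.leaf (44,13,true)) (Tr.leaf (113,5,false)))) (Tr.node (Tr.node (Tr.leaf (23,7,true)) (Tr.leaf (109,9,false))) (Tr.node (Tr.leaf (72,7,false)) (Tr.leaf (118,26,true))))) (Tr.node (Tr.node (Tr.node (Tr.leaf (18,0,false)) (Tr.leaf (107,11,true))) (Tr.node (Tr.leaf (53,12,true)) (Tr.leaf (116,7,false)))) (Tr.node (Tr.node (Tr.leaf (29,6,true)) (Tr.leaf (110,19,true))) (Tr.node (Tr.leaf (85,1,true)) (Tr.leaf (0,0,false)))))))) (Tr.node (Tr.node (Tr.node (Tr.node (Tr.node (Tr.node (Tr.leaf (10,2,true)) (Tr.leaf (94,11,false))) (Tr.node (Tr.leaf (33,1,false)) (Tr.leaf (111,10,true)))) (Tr.node (Tr.node (Tr.leaf (19,3,true)) (Tr.leaf (108,9,false))) (Tr.node (Tr.leaf (58,8,true)) (Tr.leaf (117,8,false)))))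 (Tr.node (Tr.node (Tr.node (Tr.leaf (13,9,true)) (Tr.leaf (106,10,false))) (Tr.node (Tr.leaf (46,8,false)) (Tr.leaf (113,19,true)))) (Tr.node (Tr.node (Tr.leaf (25,11,false)) (Tr.leaf (109,20,true))) (Tr.node (Tr.leaf (77,5,false)) (Tr.leaf (0,0,false)))))) (Tr.node (Tr.node (Tr.node (Tr.node (Tr.leaf (13,1,false)) (Tr.leaf (100,4,true))) (Tr.node (Tr.leaf (41,10,false)) (Tr.leaf (112,18,true)))) (Tr.node (Tr.node (Tr.leaf (23,6,false)) (Tr.leaf (109,0,false))) (Tr.node (Tr.leaf (70,7,true)) (Tr.leaf (118,14,true))))) (Tr.node (Tr.node (Tr.node (Tr.leaf (17,5,false)) (Tr.leaf (107,0,true))) (Tr.node (Tr.leaf (53,4,false)) (Tr.leaf (115,19,true)))) (Tr.node (Tr.node (Tr.leaf (28,9,true)) (Tr.leaf (110,10,true))) (Tr.node (Tr.leaf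 (83,7,false)) (Tr.leaf (0,0,false))))))) (Tr.node (Tr.node (Tr.node (Tr.node (Tr.node (Tr.leaf (11,2,true)) (Tr.leaf (97,11,false))) (Tr.node (Tr.leaf (36,7,false)) (Tr.leaf (112,9,false)))) (Tr.node (Tr.node (Tr.leaf (20,9,false)) (Tr.leaf (108,4,true))) (Tr.node (Tr.leaf (63,4,false)) (Tr.leaf (118,5,false))))) (Tr.node (Tr.node (Tr.node (Tr.leaf (15,6,false)) (Tr.leaf (107,0,false))) (Tr.node (Tr.leaf (47,0,true)) (Tr.leaf (114,15,false)))) (Tr.node (Tr.node (Tr.leaf (27,3,false)) (Tr.leaf (110,10,false))) (Tr.node (Tr.leaf (78,6,true)) (Tr.leaf (0,0,false)))))) (Tr.node (Tr.node (Tr.node (Tr.node (Tr.leaf (13,9,false)) (Tr.leaf (104,16,true))) (Tr.node (Tr.leaf (45,9,false)) (Tr.leaf (113,16,false)))) (Tr.node (Tr.node (Tr.leaf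 (24,8,false)) (Tr.leaf (109,16,false))) (Tr.node (Tr.leaf (72,9,true)) (Tr.leaf (119,2,false))))) (Tr.node (Tr.node (Tr.node (Tr.leaf (18,7,true)) (Tr.leaf (108,1,false))) (Tr.node (Tr.leaf (55,4,false)) (Tr.leaf (116,17,false)))) (Tr.node (Tr.node (Tr.leaf (30,7,false)) (Tr.leaf (111,12,false))) (Tr.node (Tr.leaf (86,9,false)) (Tr.leaf (0,0,false))))))))) (Tr.node (Tr.node (Tr.node (Tr.node (Tr.node (Tr.node (Tr.node (Tr.leaf (10,3,false)) (Tr.leaf (92,2,false))) (Tr.node (Tr.leaf (31,10,true)) (Tr.leaf (111,1,true)))) (Tr.node (Tr.node (Tr.leaf (19,7,false)) (Tr.leaf (108,7,false))) (Tr.node (Tr.leaf (58,5,true)) (Tr.leaf (116,20,true))))) (Tr.node (Tr.node (Tr.node (Tr.leaf (13,6,true)) (Tr.leaf (106,5,false))) (Tr.node (Tr.leaf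 (46,4,false)) (Tr.leaf (113,9,true)))) (Tr.node (Tr.node (Tr.leaf (25,3,false)) (Tr.leaf (109,15,true))) (Tr.node (Tr.leaf (75,11,false)) (Tr.leaf (0,0,false)))))) (Tr.node (Tr.node (Tr.node (Tr.node (Tr.leaf (12,7,true)) (Tr.leaf (100,7,false))) (Tr.node (Tr.leaf (39,6,true)) (Tr.leaf (112,14,true)))) (Tr.node (Tr.node (Tr.leaf (23,1,false)) (Tr.leaf (108,14,true))) (Tr.node (Tr.leaf (68,13,true)) (Tr.leaf (118,0,true))))) (Tr.node (Tr.node (Tr.node (Tr.leaf (17,1,false)) (Tr.leaf (107,6,false))) (Tr.node (Tr.leaf (51,3,false)) (Tr.leaf (115,11,true)))) (Tr.node (Tr.node (Tr.leaf (27,9,true)) (Tr.leaf (110,8,true))) (Tr.node (Tr.leaf (81,11,false)) (Tr.leaf (0,0,false))))))) (Tr.node (Tr.node (Tr.node (Tr.node (Tr.node (Tr.leaf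 (11,0,true)) (Tr.leaf (96,12,true))) (Tr.node (Tr.leaf (34,8,true)) (Tr.leaf (112,7,false)))) (Tr.node (Tr.node (Tr.leaf (20,4,false)) (Tr.leaf (108,2,true))) (Tr.node (Tr.leaf (62,3,false)) (Tr.leaf (117,15,true))))) (Tr.node (Tr.node (Tr.node (Tr.leaf (15,4,false)) (Tr.leaf (106,10,true))) (Tr.node (Tr.leaf (47,6,false)) (Tr.leaf (114,2,false)))) (Tr.node (Tr.node (Tr.leaf (26,11,true)) (Tr.leaf (110,7,false))) (Tr.node (Tr.leaf (78,5,false)) (Tr.leaf (0,0,false)))))) (Tr.node (Tr.node (Tr.node (Tr.node (Tr.leaf (13,7,false)) (Tr.leaf (103,6,false))) (Tr.node (Tr.leaf (45,6,false)) (Tr.leaf (113,14,false)))) (Tr.node (Tr.node (Tr.leaf (23,10,true)) (Tr.leaf (109,11,false))) (Tr.node (Tr.leaf (72,1,true)) (Tr.leaf (119,0,false)))))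 (Tr.node (Tr.node (Tr.node (Tr.leaf (18,5,false)) (Tr.leaf (107,13,true))) (Tr.node (Tr.leaf (54,10,false)) (Tr.leaf (116,11,false)))) (Tr.node (Tr.node (Tr.leaf (30,2,false)) (Tr.leaf (111,6,false))) (Tr.node (Tr.leaf (85,11,true)) (Tr.leaf (0,0,false)))))))) (Tr.node (Tr.node (Tr.node (Tr.node (Tr.node (Tr.node (Tr.leaf (11,1,false)) (Tr.leaf (95,4,false))) (Tr.node (Tr.leaf (33,3,false)) (Tr.leaf (112,2,false)))) (Tr.node (Tr.node (Tr.leaf (19,5,true)) (Tr.leaf (108,11,false))) (Tr.node (Tr.leaf (60,14,false)) (Tr.leaf (117,10,false))))) (Tr.node (Tr.node (Tr.node (Tr.leaf (15,0,false)) (Tr.leaf (106,2,true))) (Tr.node (Tr.leaf (46,10,false)) (Tr.leaf (113,23,true)))) (Tr.node (Tr.node (Tr.leaf (25,2,true)) (Tr.leaf (109,22,true)))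 (Tr.node (Tr.leaf (77,7,false)) (Tr.leaf (0,0,false)))))) (Tr.node (Tr.node (Tr.node (Tr.node (Tr.leaf (13,3,false)) (Tr.leaf (101,0,true))) (Tr.node (Tr.leaf (42,10,true)) (Tr.leaf (112,26,true)))) (Tr.node (Tr.node (Tr.leaf (23,9,false)) (Tr.leaf (109,3,false))) (Tr.node (Tr.leaf (71,11,false)) (Tr.leaf (118,17,true))))) (Tr.node (Tr.node (Tr.node (Tr.leaf (17,9,false)) (Tr.leaf (107,9,true))) (Tr.node (Tr.leaf (53,10,false)) (Tr.leaf (116,5,false)))) (Tr.node (Tr.node (Tr.leaf (29,9,false)) (Tr.leaf (110,14,true))) (Tr.node (Tr.leaf (84,4,true)) (Tr.leaf (0,0,false))))))) (Tr.node (Tr.node (Tr.node (Tr.node (Tr.node (Tr.leaf (12,2,false)) (Tr.leaf (97,12,true))) (Tr.node (Tr.leaf (38,6,false)) (Tr.leaf (112,14,false)))) (Tr.node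 (Tr.node (Tr.leaf (22,3,false)) (Tr.leaf (108,7,true))) (Tr.node (Tr.leaf (65,11,false)) (Tr.leaf (118,7,false))))) (Tr.node (Tr.node (Tr.node (Tr.leaf (15,8,false)) (Tr.leaf (107,2,false))) (Tr.node (Tr.leaf (48,5,false)) (Tr.leaf (115,4,false)))) (Tr.node (Tr.node (Tr.leaf (27,11,false)) (Tr.leaf (110,3,true))) (Tr.node (Tr.leaf (80,0,false)) (Tr.leaf (0,0,false)))))) (Tr.node (Tr.node (Tr.node (Tr.node (Tr.leaf (13,2,true)) (Tr.leaf (106,0,false))) (Tr.node (Tr.leaf (45,13,false)) (Tr.leaf (113,19,false)))) (Tr.node (Tr.node (Tr.leaf (24,1,true)) (Tr.leaf (109,9,true))) (Tr.node (Tr.leaf (73,9,false)) (Tr.leaf (119,4,false))))) (Tr.node (Tr.node (Tr.node (Tr.leaf (19,2,false)) (Tr.leaf (108,3,false))) (Tr.node (Tr.leaf (56,12,true))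 (Tr.leaf (116,14,true)))) (Tr.node (Tr.node (Tr.leaf (31,3,false)) (Tr.leaf (111,15,false))) (Tr.node (Tr.leaf (88,4,false)) (Tr.leaf (0,0,false)))))))))))

/-- The subgroup rotations. -/
noncomputable def srotT : Tr (List Nat × Nat × List Nat) := (Tr.node (Tr.node (Tr.leaf ([],0,[])) (Tr.leaf ([],2,[]))) (Tr.node (Tr.leaf ([],1,[])) (Tr.leaf ([],0,[]))))

/-- The certificate. -/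
noncomputable def cert : Cert :=
  mkCert 5 1874 9038 3 480 483 5 31 244 36 180 230 68719476735 1125899906842623 14 11 16383 2047 25 22 7 ctree.get rotT.get srotT.get

/-- The relators. -/
def rels : List (List Nat) :=
  [[4,2,1,0,2,4,2,1,0,2,4,2,1,0,2,4,2,1,0,2,4,2,1,0,2,4,2,1,0,2,4,2,1,0,2,4,2,1,0,2,4,2,1,0,2,4,2,1,0,2,4,2,1,0,2,4,2,1,0,2,4,2,1,0,2],
   [2,0,3,2,4,0,2,0,3,2,4,0,2,0,3,2,4,0],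
   [1,4,3,2,3,0,1,4,3,2,3,0,1,4,3,2,3,0],
   [0,1,2,1,4,0,1,2,1,4,0,1,2,1,4],
   [1,2,4,0,3,1,2,4,0,3,1,2,4,0,3,1,2,4,0,3,1,2,4,0,3,1,2,4,0,3,1,2,4,0,3,1,2,4,0,3,1,2,4,0,3,1,2,4,0,3,1,2,4,0,3,1,2,4,0,3,1,2,4,0,3],
   [1,0,4,2,3,2,1,0,4,2,3,2,1,0,4,2,3,2],
   [3,2,3,0,4,3,3,2,3,0,4,3,3,2,3,0,4,3],
   [1,4,0,1,2,1,4,0,1,2,1,4,0,1,2],
   [4,1,2,4,3,3,0,4,1,2,4,3,3,0,4,1,2,4,3,3,0,4,1,2,4,3,3,0,4,1,2,4,3,3,0,4,1,2,4,3,3,0,4,1,2,4,3,3,0,4,1,2,4,3,3,0,4,1,2,4,3,3,0,4,1,2,4,3,3,0,4,1,2,4,3,3,0,4,1,2,4,3,3,0,4,1,2,4,3,3,0],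
   [0,1,1,4,2,3,0,1,1,4,2,3,0,1,1,4,2,3],
   [1,1,1,1],
   [0,1,0,1,0,1,0,1],
   [1,2,1,2,1,2,1,2],
   [0,1,0,1,1,0,1,1,0,3],
   [0,1,0,1,1,0,3,3,0,3],
   [0,1,0,3,0,2,1,2,3,2],
   [0,1,0,3,3,0,1,1,0,3],
   [0,2,0,2,0,2,0,2,0,2],
   [1,1,1,2,3,2,3,2,3,2],
   [1,1,2,1,1,2,3,2,1,2],
   [1,1,2,3,2,1,2,3,3,2],
   [1,1,2,3,3,2,3,2,1,2],
   [0,1,0,1,1,1,0,2,1,2,3,2],
   [0,1,0,1,2,1,2,3,2,0,1,1],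
   [0,1,0,1,2,1,2,3,2,0,3,3],
   [0,1,0,2,1,2,3,2,1,0,1,1],
   [0,1,0,2,1,2,3,2,1,0,3,3],
   [0,1,0,2,3,2,1,1,2,0,1,1],
   [0,1,0,2,3,2,1,1,2,0,3,3],
   [0,1,0,3,0,1,2,1,1,2,1,2],
   [0,1,0,3,0,1,2,1,2,3,2,3],
   [0,1,0,3,0,2,1,1,2,1,2,1],
   [0,1,0,3,0,3,2,1,2,3,2,1],
   [0,2,0,3,2,1,0,2,0,3,2,1],
   [0,1,0,1,1,2,1,1,2,1,2,0,3,3],
   [0,1,0,1,1,2,3,3,2,1,2,0,3,3],
   [0,1,0,1,2,1,1,2,1,2,1,0,3,3],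
   [0,1,0,2,1,2,1,1,1,2,1,0,3,3],
   [0,1,0,3,0,1,0,3,0,1,1,0,3,3],
   [0,1,0,3,0,1,1,2,1,1,2,1,2,3],
   [0,1,0,3,2,1,1,2,1,2,3,0,3,3],
   [0,1,0,3,2,1,2,3,2,1,1,0,1,1],
   [0,1,0,3,2,3,2,1,1,2,1,0,1,1],
   [0,1,0,3,2,3,2,1,1,2,1,0,3,3],
   [0,1,1,1,2,1,0,2,0,3,2,1,0,2],
   [0,1,2,1,0,2,0,2,0,3,2,3,0,2],
   [0,1,2,1,0,3,2,3,0,2,1,0,3,2],
   [0,1,2,1,2,0,2,0,1,2,1,2,0,2],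
   [0,1,2,1,2,0,2,0,2,3,2,3,0,2],
   [0,1,0,1,0,1,2,0,2,0,2,0,2,0,2,1],
   [0,1,0,1,0,2,1,0,2,0,3,2,1,0,2,1],
   [0,1,0,2,0,1,0,3,0,1,1,2,3,0,1,1],
   [0,1,0,2,0,1,0,3,0,3,3,2,3,0,3,3],
   [0,1,0,2,0,1,1,0,1,0,3,2,3,0,3,3],
   [0,1,0,2,0,3,0,2,0,3,2,0,2,1,0,2],
   [0,1,0,2,0,3,3,0,1,0,3,2,3,0,1,1],
   [0,1,0,2,1,0,1,0,3,0,1,2,3,0,1,1],
   [0,1,0,2,1,0,3,0,1,1,0,2,3,0,1,1],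
   [0,1,0,2,1,0,3,2,3,0,2,1,0,2,3,2],
   [0,1,0,2,1,2,0,2,0,3,2,1,0,2,1,1],
   [0,1,0,2,1,2,0,2,0,3,2,1,0,2,3,3],
   [0,1,0,2,1,2,1,2,1,2,0,2,1,2,3,2],
   [0,1,0,2,1,2,3,2,0,2,1,2,3,2,0,3],
   [0,1,0,2,3,0,1,0,3,0,3,2,3,0,1,1],
   [0,1,0,2,3,0,1,0,3,0,3,2,3,0,3,3],
   [0,1,0,2,3,0,1,1,0,1,0,2,3,0,3,3],
   [0,1,0,3,0,1,1,2,0,1,0,3,0,3,3,2],
   [0,1,0,3,0,1,1,2,0,1,1,0,1,0,3,2],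
   [0,1,0,3,0,1,1,2,0,3,3,0,1,0,3,2],
   [0,1,0,3,0,1,1,2,1,0,1,0,3,0,1,2],
   [0,1,0,3,0,1,2,1,0,3,0,1,1,0,2,1],
   [0,1,0,3,2,0,1,2,1,2,0,2,0,3,2,3],
   [0,1,0,3,2,0,2,0,2,0,2,0,1,2,3,2],
   [0,1,0,3,2,0,3,2,1,0,2,0,2,3,2,1],
   [0,1,0,3,2,1,0,3,0,1,1,0,2,0,1,1],
   [0,1,1,0,1,2,0,1,2,1,2,0,2,0,3,2],
   [0,1,1,0,1,2,0,2,3,2,3,0,2,0,3,2],
   [0,1,1,0,2,0,1,2,0,1,1,0,2,3,0,2],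
   [0,1,1,0,2,0,1,2,1,0,2,3,2,1,0,2],
   [0,1,1,1,2,3,0,2,1,0,3,2,0,1,2,1],
   [0,1,1,2,1,2,3,2,0,2,3,2,1,1,2,1],
   [0,1,1,2,1,2,3,2,0,2,3,2,3,3,2,1],
   [0,1,1,2,1,2,3,2,0,3,2,1,1,2,1,2],
   [0,1,1,2,1,2,3,2,0,3,3,2,1,2,3,2],
   [0,1,1,2,3,2,3,2,0,2,0,3,2,1,0,2],
   [0,1,2,1,0,2,1,2,1,2,0,2,1,0,3,2],
   [0,1,2,1,2,3,2,1,0,1,2,3,2,1,1,2],
   [0,1,2,1,2,3,2,1,0,2,3,2,3,3,2,1],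
   [0,1,2,1,2,3,2,1,0,3,3,2,1,2,3,2],
   [0,1,2,3,2,1,1,2,0,2,1,1,2,1,2,3],
   [0,1,2,3,2,1,1,2,0,3,2,1,1,2,1,2],
   [0,1,2,3,2,3,3,2,0,2,3,2,1,1,2,1],
   [0,2,0,2,0,2,3,2,1,0,2,0,3,2,1,2],
   [0,2,0,2,1,1,2,1,1,2,0,2,0,3,2,1],
   [0,2,1,0,3,2,0,3,2,1,2,0,2,3,2,1],
   [0,2,1,2,0,2,3,2,0,2,1,2,0,2,3,2],
   [0,2,3,2,1,1,2,1,0,2,3,2,1,1,2,1],
   [0,1,0,1,2,0,2,0,1,1,2,0,3,2,0,3,2],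
   [0,1,0,1,2,0,2,0,3,3,2,0,3,2,0,3,2],
   [0,1,0,1,2,1,0,2,1,0,2,1,1,0,2,0,2],
   [0,1,0,2,1,0,2,1,0,1,1,2,0,2,0,1,2],
   [0,1,0,2,1,0,2,1,0,3,3,2,0,2,0,1,2],
   [0,1,0,2,3,0,2,0,2,1,0,1,2,1,0,2,3],
   [0,1,0,2,3,2,0,1,2,3,2,0,2,1,1,0,2],
   [0,1,0,2,3,2,0,2,0,1,0,3,2,1,1,0,2],
   [0,1,0,2,3,2,0,2,0,1,0,3,2,3,3,0,2],
   [4,1,4,3,0,2,3,0,3,0,2,0],
   [4,0,3,2,0,4,0,1,2,3,3,0,1,2],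
   [4,0,4,3,2,0,2,1,4,0,4,3,3,0,1,0,3,0],
   [4,0,4,1,0,3,2,0,3,4,0,4,3,0,2,0,2,3,0,3,2,1,0],
   [4,0,4,0,1,2,0,1,2,3,4,0,4,0,1,2,0,1,2,3],
   [4,0,4,0,4,3,2,0,2,1,4,0,4,0,4,2,0,2,0,3,0,2,0,1,0],
   [4,0,4,0,4,1,0,2,0,2,3,3,0,4,0,4,0,4,0,3,0,2,0,3,0,2,0,3],
   [4,0,4,0,4,1,0,3,2,3,2,0,3,4,0,4,0,4,2,0,2,0,3,3,2,3,3,0],
   [4,0,4,0,4,0,4,0,4,0,4,0,4,0,4,0],
   [4,0,1,2,4,2,3,0,4,2,3,0,3,2,3,3,0,3,2,3],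
   [4,0,4,0,1,2,4,3,2,3,0,4,0,4,2,3,0,2,1,0,2,0],
   [4,0,4,0,4,0,1,2,4,1,2,3,0,4,0,4,0,4,1,0,2,1,0,3],
   [4,0,4,0,4,0,4,1,0,4,1,0,2,0,3,4,0,4,0,4,0,4,3,2,3,0,3,2,1]]

/-- The words of the subgroup. -/
def subs : List (List Nat) :=
  [[0],
   [1],
   [2]]

end Cfsg.Agent.Lib.CosetCert.D.RuT.Lv0.Tab
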